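import Groth.Agent.H28Pinch.DirectImageTrivial
import Groth.Agent.H29Fitt.FreeLocal
import Groth.Agent.H16Derived.KFlat.FinLocFree
import Mathlib.AlgebraicGeometry.PullbackCarrier

/-!
# Bases of sections: uniqueness of the size, transport and descent along open immersions
-/

set_option autoImplicit false
set_option linter.style.haveILetI false

noncomputable section

universe u

open AlgebraicGeometry CategoryTheory Limits TopologicalSpace Opposite

namespace Groth.Agent.LeadStrat.VB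

open Groth.Agent.H28Pinch

variable {X Y : Scheme.{u}} {F : X.Modules}

/-- Two bases over a nonempty open have the same size. -/
theorem rank_unique {U : X.Opens} {n k : ℕ} {m : Fin n → Γ(F, U)} {m' : Fin k → Γ(F, U)}
    (hm : IsBasisOn F m) (hm' : IsBasisOn F m') {x : X} (hx : x ∈ U) : n = k := by
  let L : ∀ {n : ℕ} (m : Fin n → Γ(F, U)), (Fin n → Γ(X, U)) →ₗ[Γ(X, U)] Γ(F, U) := fun m =>
    Fintype.linearCombination Γ(X, U) fun j => F.presheaf.map (homOfLE (le_refl U)).op (m j)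
  haveI : Nonempty U := ⟨⟨x, hx⟩⟩
  have e := (LinearEquiv.ofBijective (L m) (hm U le_rfl)).trans (LinearEquiv.ofBijective (L m') (hm' U le_rfl)).symm
  exact Fin.equiv_iff_eq.1 ⟨(Module.Basis.ofEquivFun (LinearEquiv.refl Γ(X, U) (Fin n → Γ(X, U)))).indexEquiv
    (Module.Basis.ofEquivFun e)⟩

/-- A basis restricts to bases on local opens and is a basis if it is one locally. -/
theorem isBasisOn_of_cover {U : X.Opens} {n : ℕ} {m : Fin n → Γ(F, U)}
    (H : ∀ x ∈ U, ∃ (O : X.Opens) (h : O ≤ U), x ∈ O ∧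
      IsBasisOn F (fun j => F.presheaf.map (homOfLE h).op (m j))) : IsBasisOn F m := by
  refine isBasisOn_of_locally fun x hx => ?_
  obtain ⟨O, hO, hxO, hb⟩ := H x hx
  refine ⟨O, hxO, fun V h _ hVO => ?_⟩
  have e : comb F (fun j => F.presheaf.map (homOfLE hO).op (m j)) hVO = comb F m h :=
    funext fun c => Finset.sum_congr rfl fun j _ => congrArg _ (H10Coh.mres_mres F hO hVO (m j))
  exact e ▸ hb V hVO

theorem isBasisOn_gen (Y : Scheme.{u}) (n : ℕ) (W : Y.Opens) :
    IsBasisOn (FlatMod.freeMod Y n) (fun j => H29Fitt.gen Y n j W) := by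
  intro V hV
  have e : comb (FlatMod.freeMod Y n) (fun j => H29Fitt.gen Y n j W) hV =
      fun c => ∑ j, c j • H29Fitt.gen Y n j V :=
    funext fun c => Finset.sum_congr rfl fun j _ => congrArg _ (H29Fitt.res_gen n j hV)
  rw [e]
  refine ⟨fun c c' h => sub_eq_zero.1 (H29Fitt.gen_independent n V (c - c') ?_), fun z =>
    H29Fitt.exists_eq_sum_gen n V z⟩
  simp only [Pi.sub_apply, sub_smul, Finset.sum_sub_distrib, sub_eq_zero]
  exact h

/-- A basis of global sections trivialises. -/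
theorem nonempty_iso_free_of_top {n : ℕ} {W : X.Opens} (hW : ⊤ ≤ W) {m : Fin n → Γ(F, W)}
    (hm : IsBasisOn F m) : Nonempty (F ≅ FlatMod.freeMod X n) := by
  let a := H29Fitt.freeHom F fun j => F.presheaf.map (homOfLE hW).op (m j)
  suffices IsIso a from ⟨(asIso a).symm⟩
  refine isIso_of_bases a fun x => ⟨⊤, n, _, trivial, isBasisOn_gen X n ⊤, ?_⟩
  have e : (fun j => a.app ⊤ (H29Fitt.gen X n j ⊤)) = fun j => F.presheaf.map (homOfLE hW).op (m j) :=
    funext fun j => (H29Fitt.freeHom_gen _ _ j ⊤).trans (H10Coh.mres_self F le_top _)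
  exact e ▸ hm.mono hW

/-- Pull a basis along a morphism to a smaller open, and across an isomorphism. -/
theorem exists_basis_pull (g : Y ⟶ X) {G : Y.Modules} (φ : (Scheme.Modules.pullback g).obj F ≅ G)
    (hF : Coh.IsQCoh F) {W : X.Opens} {n : ℕ} {m : Fin n → Γ(F, W)} (hm : IsBasisOn F m) {W' : Y.Opens}
    (hle : W' ≤ g ⁻¹ᵁ W) : ∃ m' : Fin n → Γ(G, W'), IsBasisOn G m' :=
  ⟨_, (((hm.pullback g hF).mono hle).map_iso φ)⟩

/-- A basis of the restriction along an open immersion gives one downstairs. -/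
theorem exists_basis_image (g : Y ⟶ X) [IsOpenImmersion g] {G : Y.Modules}
    (φ : (Scheme.Modules.pullback g).obj F ≅ G) {U : Y.Opens} {n : ℕ} {m : Fin n → Γ(G, U)}
    (hm : IsBasisOn G m) {W : X.Opens} (hW : W ≤ g ''ᵁ U) : ∃ m' : Fin n → Γ(F, W), IsBasisOn F m' := by
  obtain ⟨e⟩ := nonempty_chart_of_isBasisOn hm
  have hrange : Set.range (g ''ᵁ U).ι = Set.range (U.ι ≫ g) := by
    rw [Scheme.Opens.range_ι, Scheme.Hom.comp_base, TopCat.coe_comp, Set.range_comp, Scheme.Opens.range_ι]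
    rfl
  let w := IsOpenImmersion.isoOfRangeEq (g ''ᵁ U).ι (U.ι ≫ g) hrange
  have hw : w.hom ≫ U.ι ≫ g = (g ''ᵁ U).ι := IsOpenImmersion.isoOfRangeEq_hom_fac _ _ _
  obtain ⟨m', hm'⟩ := exists_isBasisOn_of_chart F
    ((Scheme.Modules.restrictFunctorIsoPullback (g ''ᵁ U).ι).app F ≪≫
      (Scheme.Modules.pullbackCongr hw.symm).app F ≪≫ ((Scheme.Modules.pullbackComp w.hom (U.ι ≫ g)).app F).symm ≪≫
      (Scheme.Modules.pullback w.hom).mapIso (((Scheme.Modules.pullbackComp U.ι g).app F).symm ≪≫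
        (Scheme.Modules.pullback U.ι).mapIso φ ≪≫ ((Scheme.Modules.restrictFunctorIsoPullback U.ι).app G).symm ≪≫ e) ≪≫
      H16Derived.KFlat.Stalk.freeModPullbackIso w.hom n)
  exact ⟨_, hm'.mono hW⟩

/-- Locally a base change of sections has bases of size `n`. -/
def LocTriv {T XT : Scheme.{u}} (fT : XT ⟶ T) (G : XT.Modules) (n : ℕ) : Prop :=
  ∀ t : T, ∃ (W : T.Opens) (m : Fin n → Γ(G, fT ⁻¹ᵁ W)), t ∈ W ∧ IsBasisOn G m

/-- The same for some size at each point. -/
def LocTrivAny {T XT : Scheme.{u}} (fT : XT ⟶ T) (G : XT.Modules) : Prop :=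
  ∀ t : T, ∃ (W : T.Opens) (n : ℕ) (m : Fin n → Γ(G, fT ⁻¹ᵁ W)), t ∈ W ∧ IsBasisOn G m

theorem locTrivAny_of_iso {T XT : Scheme.{u}} (fT : XT ⟶ T) {G : XT.Modules} {M : T.Modules}
    (hM : FlatMod.IsFinLocFree M) (φ : G ≅ (Scheme.Modules.pullback fT).obj M) : LocTrivAny fT G := by
  intro t
  obtain ⟨U, n, ht, ⟨e⟩⟩ := hM t
  obtain ⟨m, hm⟩ := exists_isBasisOn_of_chart M e
  obtain ⟨m', hm'⟩ := exists_basis_pull fT φ.symm (H8Props.FinLocFree.isQCoh_of_isFinLocFree M hM) hm le_rfl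
  exact ⟨U, n, m', ht, hm'⟩

/-- If `f_* O = O`, a module with bases locally over the base comes from the base. -/
theorem exists_vb_of_locTrivAny {X S : Scheme.{u}} (f : X ⟶ S) (hf : ∀ U : S.Opens, Function.Bijective (f.app U))
    {L : X.Modules} (hloc : LocTrivAny f L) :
    ∃ N : S.Modules, FlatMod.IsFinLocFree N ∧ Nonempty (L ≅ (Scheme.Modules.pullback f).obj N) := by
  let N := (Scheme.Modules.pushforward f).obj L
  have chart : ∀ s : S, ∃ (U : S.Opens) (n : ℕ) (m : Fin n → Γ(N, U)), s ∈ U ∧ IsBasisOn N m ∧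
      IsBasisOn L (fun j => (m j : Γ(L, f ⁻¹ᵁ U))) := by
    intro s
    obtain ⟨U, n, b, hsU, hb⟩ := hloc s
    refine ⟨U, n, fun j => b j, hsU, fun V hV => ?_, hb⟩
    have hc : Function.Bijective fun (c : Fin n → Γ(S, V)) j => f.app V (c j) :=
      ⟨fun c c' h => funext fun j => (hf V).1 (congrFun h j),
        fun d => ⟨fun j => ((hf V).2 (d j)).choose, funext fun j => ((hf V).2 (d j)).choose_spec⟩⟩
    have key : (comb N (fun j => (b j : Γ(N, U))) hV : _ → Γ(L, f ⁻¹ᵁ V)) =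
        comb L b (f.preimage_mono hV) ∘ fun c j => f.app V (c j) := rfl
    exact key ▸ (hb _ _).comp hc
  have hN : FlatMod.IsFinLocFree N := fun s => by
    obtain ⟨U, n, m, hsU, hm, -⟩ := chart s
    obtain ⟨e⟩ := nonempty_chart_of_isBasisOn hm
    exact ⟨U, n, hsU, ⟨e⟩⟩
  have hq : Coh.IsQCoh N := H8Props.FinLocFree.isQCoh_of_isFinLocFree N hN
  refine ⟨N, hN, ⟨?_⟩⟩
  suffices IsIso ((Scheme.Modules.pullbackPushforwardAdjunction f).counit.app L) from
    (asIso ((Scheme.Modules.pullbackPushforwardAdjunction f).counit.app L)).symm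
  refine isIso_of_bases _ fun x => ?_
  obtain ⟨U, n, m, hxU, hm, hm'⟩ := chart (f x)
  refine ⟨f ⁻¹ᵁ U, n, _, hxU, hm.pullback f hq, ?_⟩
  have e1 : (fun j => ((Scheme.Modules.pullbackPushforwardAdjunction f).counit.app L).app (f ⁻¹ᵁ U)
      (OmegaSh.pullSect f N U (m j))) = fun j => (m j : Γ(L, f ⁻¹ᵁ U)) :=
    funext fun j => H11Ample.counit_app_pullSect f L U (m j)
  exact e1.symm ▸ hm'

end Groth.Agent.LeadStrat.VB
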