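import Groth.Agent.LeadStrat.Main
import Groth.Agent.LeadStrat.VB.Bases
import Groth.Agent.H28Top.Spectral

/-!
# Bases over the base and the stratum
-/

set_option autoImplicit false
set_option linter.style.haveILetI false
set_option linter.unusedSectionVars false

noncomputable section

universe u

open CategoryTheory CategoryTheory.Limits AlgebraicGeometry Opposite TopologicalSpace
open scoped TensorProduct

namespace Groth.Agent.LeadStrat.VB

open Groth.Agent.H28Pinch Groth.Agent.H12Pic Groth.Agent.LeadBC.GenBC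

attribute [local instance 10000] H10Coh.hasSheafifyAb H10Coh.hasWeakSheafifyAb H10Coh.hasExtAb H10Coh.enoughInjAb

variable {X S : Scheme.{u}} (f : X ⟶ S) (E : X.Modules) {n : ℕ}

/-- Bases over an open make the sections at its local points free. -/
theorem secRank_of_locTriv (hbij : ∀ {T XT : Scheme.{u}} {u : T ⟶ S} {g : XT ⟶ X} {p : XT ⟶ T},
      IsPullback g p f u → ∀ U : T.Opens, Function.Bijective (p.app U))
    (hE : Coh.IsQCoh E) {T XT : Scheme.{u}} {u : T ⟶ S} {gT : XT ⟶ X} {fT : XT ⟶ T}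
    (hT : IsPullback gT fT f u) (hloc : LocTriv fT ((Scheme.Modules.pullback gT).obj E) n)
    {R : Type u} [CommRing R] [IsLocalRing R] (v : Spec (CommRingCat.of R) ⟶ T) :
    SecRank f E n (v ≫ u) := by
  obtain ⟨W, m, htW, hm⟩ := hloc (v (IsLocalRing.closedPoint R))
  have htop : (⊤ : (Spec (CommRingCat.of R)).Opens) ≤ v ⁻¹ᵁ W := (H23Para.eq_top_of_closedPoint_mem htW).ge
  let g := hT.lift (pullback.fst f (v ≫ u)) (pullback.snd f (v ≫ u) ≫ v)
    (by rw [Category.assoc]; exact pullback.condition)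
  have hg₁ : g ≫ gT = pullback.fst f (v ≫ u) := hT.lift_fst _ _ _
  have hg₂ : g ≫ fT = pullback.snd f (v ≫ u) ≫ v := hT.lift_snd _ _ _
  have hle : pullback.snd f (v ≫ u) ⁻¹ᵁ ⊤ ≤ g ⁻¹ᵁ (fT ⁻¹ᵁ W) := fun x _ => by
    show fT (g x) ∈ W
    rw [← Scheme.Hom.comp_apply, hg₂]
    exact htop (Set.mem_univ _)
  obtain ⟨m', hm'⟩ := exists_basis_pull g
    ((Scheme.Modules.pullbackComp g gT).app E ≪≫ (Scheme.Modules.pullbackCongr hg₁).app E)
    (H29Fitt.isQCoh_pullback gT E hE) hm hle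
  let N := (Scheme.Modules.pushforward (pullback.snd f (v ≫ u))).obj
    ((Scheme.Modules.pullback (pullback.fst f (v ≫ u))).obj E)
  let L : (Fin n → Γ(Spec (CommRingCat.of R), ⊤)) →ₗ[Γ(Spec (CommRingCat.of R), ⊤)] Γ(N, ⊤) :=
    Fintype.linearCombination Γ(Spec (CommRingCat.of R), ⊤) fun j => (m' j : Γ(N, ⊤))
  have hp := hbij (IsPullback.of_hasPullback f (v ≫ u)) ⊤
  have hc : Function.Bijective fun (c : Fin n → Γ(Spec (CommRingCat.of R), ⊤)) j =>
      (pullback.snd f (v ≫ u)).app ⊤ (c j) :=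
    ⟨fun c c' h => funext fun j => hp.1 (congrFun h j),
      fun d => ⟨fun j => (hp.2 (d j)).choose, funext fun j => (hp.2 (d j)).choose_spec⟩⟩
  have hL : Function.Bijective L := by
    have key : (L : _ → Γ(N, ⊤)) = comb _ m' le_rfl ∘ fun c j => (pullback.snd f (v ≫ u)).app ⊤ (c j) := by
      funext c
      refine (Fintype.linearCombination_apply _ _ c).trans ?_
      exact Finset.sum_congr rfl fun j _ => congrArg (fun z : Γ((Scheme.Modules.pullback (pullback.fst f (v ≫ u))).obj E,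
          pullback.snd f (v ≫ u) ⁻¹ᵁ ⊤) => (pullback.snd f (v ≫ u)).app ⊤ (c j) • z)
        (H10Coh.mres_self ((Scheme.Modules.pullback (pullback.fst f (v ≫ u))).obj E) le_rfl (m' j)).symm
    rw [key]
    exact (hm' _ le_rfl).comp hc
  exact ⟨(LinearEquiv.ofBijective L hL).toAddEquiv, fun b x => map_smul L b x⟩

variable [IsProper f] [LocallyOfFinitePresentation f] [E.IsQuasicoherent]

/-- Bases over the base give the rank condition. -/
theorem cond_of_locTriv (hfp : CohB1.IsFP E) (hfl : FlatMod.IsFlatOver f E)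
    (hbij : ∀ {T XT : Scheme.{u}} {u : T ⟶ S} {g : XT ⟶ X} {p : XT ⟶ T},
      IsPullback g p f u → ∀ U : T.Opens, Function.Bijective (p.app U))
    {T XT : Scheme.{u}} {u : T ⟶ S} {gT : XT ⟶ X} {fT : XT ⟶ T} (hT : IsPullback gT fT f u)
    (hloc : LocTriv fT ((Scheme.Modules.pullback gT).obj E) n) : Cond E n fT gT := by
  refine cond_of_idealCond f hfp hfl hT fun t => ?_
  obtain ⟨V, hV, hV', -⟩ := exists_isAffineOpen_mem_and_subset (U := (⊤ : S.Opens)) (x := u t) trivial
  obtain ⟨W, hW, htW, hle⟩ := exists_isAffineOpen_mem_and_subset (U := u ⁻¹ᵁ V) (x := t) hV'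
  obtain ⟨Q, hQ⟩ := exists_isChartHom f hfp hfl hV
  exact ⟨V, hV, Q, W, hW, hle, htW, hQ, (idealCond_iff_secRank f hQ u hW hle).2 fun R _ _ v _ =>
    secRank_of_locTriv f E hbij ‹_› hT hloc v⟩

omit [IsProper f] [LocallyOfFinitePresentation f] [E.IsQuasicoherent]

/-- Points with a basis near them. -/
def basisLocus {V : S.Opens} (e : Fin n → Γ(E, f ⁻¹ᵁ V)) : X.Opens :=
  ⟨{x | ∃ (O : X.Opens) (h : O ≤ f ⁻¹ᵁ V), x ∈ O ∧
      IsBasisOn E (fun j => E.presheaf.map (homOfLE h).op (e j))},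
    isOpen_iff_forall_mem_open.2 fun _ ⟨O, h, hxO, hb⟩ => ⟨O, fun _ hy => ⟨O, h, hy, hb⟩, O.isOpen, hxO⟩⟩

/-- Sections over a preimage as sections of the direct image. -/
def toPush {X S : Scheme.{u}} (f : X ⟶ S) (G : X.Modules) {V : S.Opens} {n : ℕ} (e : Fin n → Γ(G, f ⁻¹ᵁ V)) :
    Fin n → Γ((Scheme.Modules.pushforward f).obj G, V) := e

/-- If the pullback of a family to a base change has a basis, the base change sections are a basis. -/
theorem basisLocus_of_bc (hN : Coh.IsQCoh ((Scheme.Modules.pushforward f).obj E)) (hE : FlatMod.IsFinLocFree E)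
    {T XT : Scheme.{u}} {u : T ⟶ S} {g' : XT ⟶ X} {fT : XT ⟶ T} (h : IsPullback g' fT f u)
    [IsIso (CohBC.bc0 f u fT g' h.w E)]
    {V : S.Opens} (hV : IsAffineOpen V) {e : Fin n → Γ(E, f ⁻¹ᵁ V)}
    (he : Submodule.span Γ(S, V) (Set.range (toPush f E e)) = ⊤)
    {W : T.Opens} (hW : IsAffineOpen W) (hle : W ≤ u ⁻¹ᵁ V)
    {γ : Fin n → Γ((Scheme.Modules.pullback g').obj E, fT ⁻¹ᵁ W)} (hγ : IsBasisOn _ γ)
    {t : T} (ht : t ∈ W) {x : X} (hx : f x = u t) : x ∈ basisLocus f E e := by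
  classical
  have hle' : fT ⁻¹ᵁ W ≤ g' ⁻¹ᵁ (f ⁻¹ᵁ V) := fun y hy => by
    show f (g' y) ∈ V
    rw [← Scheme.Hom.comp_apply, h.w, Scheme.Hom.comp_apply]
    exact hle hy
  let G := (Scheme.Modules.pullback g').obj E
  let P := (Scheme.Modules.pushforward fT).obj G
  let pe : Fin n → Γ(G, fT ⁻¹ᵁ W) := fun j =>
    G.presheaf.map (homOfLE hle').op (OmegaSh.pullSect g' E (f ⁻¹ᵁ V) (e j))
  letI := (u.appLE V W hle).hom.toAlgebra
  letI := Module.compHom Γ(P, W) (u.appLE V W hle).hom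
  haveI : IsScalarTower Γ(S, V) Γ(T, W) Γ(P, W) := .of_algebraMap_smul fun _ _ => rfl
  -- the pulled back sections span
  have hspan : ∀ y : Γ(P, W), y ∈ Submodule.span Γ(T, W) (Set.range (toPush fT G pe)) := by
    intro y
    haveI : IsIso (((Scheme.Modules.pullbackPushforwardAdjunction u).homEquiv _ _).symm (τ₀ f E h)) := by
      rw [← LeadBC.Seesaw.bc0Adj_eq f h E]
      exact ‹IsIso (CohBC.bc0 f u fT g' h.w E)›
    obtain ⟨c, hc, hfun⟩ := exists_transpose_app u hN (τ₀ f E h) hV hW hle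
    obtain ⟨z', hz'⟩ := (ConcreteCategory.bijective_of_isIso
      ((((Scheme.Modules.pullbackPushforwardAdjunction u).homEquiv _ _).symm (τ₀ f E h)).app W)).2 y
    obtain ⟨z, rfl⟩ := hc.2 z'
    have key := (congrFun hfun z).symm
    simp only [Function.comp_apply] at key
    rw [← hz']
    erw [key]
    clear key hz'
    induction z using TensorProduct.induction_on with
    | zero => rw [map_zero]; exact zero_mem _
    | add a b ha hb => rw [map_add]; exact add_mem ha hb
    | tmul b m =>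
      rw [LinearMap.liftBaseChange_tmul]
      refine Submodule.smul_mem _ _ ?_
      obtain ⟨d, rfl⟩ := (Submodule.mem_span_range_iff_exists_fun Γ(S, V)).1
        (he.ge (Submodule.mem_top (x := m)))
      rw [map_sum]
      refine Submodule.sum_mem _ fun j _ => ?_
      rw [map_smul, ← algebraMap_smul Γ(T, W)]
      refine Submodule.smul_mem _ _ (Submodule.subset_span ⟨j, ?_⟩)
      exact (LeadBC.Seesaw.locLin_τ₀ f E h hle hle' (e j)).symm
  have hγs : ∀ y : Γ(G, fT ⁻¹ᵁ W), ∃ d : Fin n → Γ(XT, fT ⁻¹ᵁ W), ∑ k, d k • γ k = y := fun y => by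
    obtain ⟨d, hd⟩ := (hγ _ le_rfl).2 y
    exact ⟨d, (Finset.sum_congr rfl fun k _ => by rw [H10Coh.mres_self]).trans hd⟩
  choose A hA using fun j => hγs (pe j)
  choose C hC using fun j => (Submodule.mem_span_range_iff_exists_fun _).1 (hspan (toPush fT G γ j))
  let C' : Matrix (Fin n) (Fin n) Γ(XT, fT ⁻¹ᵁ W) := Matrix.of fun j k => fT.app W (C j k)
  have hC' : ∀ j, γ j = ∑ k, C' j k • pe k := fun j => (hC j).symm
  have hone : C' * Matrix.of A = 1 := by
    ext j i
    refine (congrFun ((hγ _ le_rfl).1 (a₁ := (C' * Matrix.of A) j) (a₂ := (1 : Matrix _ _ _) j) ?_) i)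
    simp only [comb, H10Coh.mres_self, Matrix.mul_apply, Matrix.one_apply, Matrix.of_apply, Finset.sum_smul, mul_smul,
      ite_smul, one_smul, zero_smul, Finset.sum_ite_eq, Finset.mem_univ, if_true]
    rw [Finset.sum_comm, hC' j]
    exact Finset.sum_congr rfl fun k _ => by rw [← Finset.smul_sum, hA]
  have hpe : IsBasisOn G pe := hγ.of_matrix (Matrix.of A) (fun j => (hA j).symm)
    (IsUnit.of_mul_eq_one_right _ (by rw [← Matrix.det_mul, hone, Matrix.det_one]))
  -- compare with a chart near the point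
  obtain ⟨x', hx'₁, hx'₂⟩ := Scheme.exists_preimage_of_isPullback h x t hx
  obtain ⟨U₀, k, hxU₀, ⟨φ⟩⟩ := hE x
  obtain ⟨b₀, hb₀⟩ := exists_isBasisOn_of_chart E φ
  have hxV : x ∈ f ⁻¹ᵁ V := by
    show f x ∈ V
    rw [hx]
    exact hle ht
  let U := U₀ ⊓ f ⁻¹ᵁ V
  have hU : U ≤ f ⁻¹ᵁ V := inf_le_right
  have hb := hb₀.mono (inf_le_left : U ≤ U₀)
  let O := g' ⁻¹ᵁ U ⊓ fT ⁻¹ᵁ W
  have hxO : x' ∈ O := ⟨by show g' x' ∈ U; rw [hx'₁]; exact ⟨hxU₀, hxV⟩, by show fT x' ∈ W; rw [hx'₂]; exact ht⟩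
  have hpb := (hb.pullback g' (H8Props.FinLocFree.isQCoh_of_isFinLocFree E hE)).mono (inf_le_left : O ≤ g' ⁻¹ᵁ U)
  have hpeO := hpe.mono (inf_le_right : O ≤ fT ⁻¹ᵁ W)
  obtain rfl := rank_unique hpeO hpb hxO
  choose M hM using fun j => (hb U le_rfl).2 (E.presheaf.map (homOfLE hU).op (e j))
  simp only [comb, H10Coh.mres_self] at hM
  have hdet := isUnit_det_of_isBasisOn hpeO ((Matrix.of M).map (g'.appLE U O inf_le_left)) fun j => by
    show G.presheaf.map _ (G.presheaf.map _ (OmegaSh.pullSect g' E (f ⁻¹ᵁ V) (e j))) = _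
    rw [H10Coh.mres_mres, ← H10Coh.mres_mres G (g'.preimage_mono hU) (inf_le_left : O ≤ g' ⁻¹ᵁ U),
      ← OmegaSh.pullSect_map g' E hU, ← hM j, map_sum, map_sum]
    refine Finset.sum_congr rfl fun k _ => ?_
    rw [OmegaSh.pullSect_smul, Scheme.Modules.map_smul]
    rfl
  rw [← RingHom.mapMatrix_apply, ← RingHom.map_det] at hdet
  have hxD : x ∈ X.basicOpen (Matrix.of M).det := by
    have h1 : x' ∈ XT.basicOpen (g'.appLE U O inf_le_left (Matrix.of M).det) := by
      rw [Scheme.basicOpen_of_isUnit _ hdet]; exact hxO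
    rw [Scheme.basicOpen_appLE] at h1
    exact hx'₁ ▸ h1.2
  let D := X.basicOpen (Matrix.of M).det
  refine ⟨D, (X.basicOpen_le _).trans hU, hxD, ?_⟩
  refine (hb.mono (X.basicOpen_le _)).of_matrix ((Matrix.of M).map (X.presheaf.map (homOfLE (X.basicOpen_le _)).op))
    (fun j => ?_) ?_
  · rw [← H10Coh.mres_mres E hU (X.basicOpen_le _), ← hM j, map_sum]
    exact Finset.sum_congr rfl fun k _ => Scheme.Modules.map_smul E _ _ _
  · rw [← RingHom.mapMatrix_apply, ← RingHom.map_det]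
    exact X.toRingedSpace.isUnit_res_basicOpen _

variable [IsProper f] [LocallyOfFinitePresentation f]

/-- Where the basis locus contains a fibre the family is a basis over a neighbourhood. -/
theorem exists_nhd_basis {V : S.Opens} {e : Fin n → Γ(E, f ⁻¹ᵁ V)} {s : S} (hs : s ∈ V)
    (hfib : ∀ x, f x = s → x ∈ basisLocus f E e) :
    ∃ (W : S.Opens) (m : Fin n → Γ(E, f ⁻¹ᵁ W)), s ∈ W ∧ IsBasisOn E m := by
  obtain ⟨V', hs', hle⟩ := exists_open_preimage_le f s (basisLocus f E e) hfib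
  refine ⟨V' ⊓ V, fun j => E.presheaf.map (homOfLE (f.preimage_mono inf_le_right)).op (e j), ⟨hs', hs⟩,
    isBasisOn_of_cover fun x hx => ?_⟩
  obtain ⟨O, hO, hxO, hb⟩ := hle (show x ∈ f ⁻¹ᵁ V' from hx.1)
  refine ⟨O ⊓ f ⁻¹ᵁ (V' ⊓ V), inf_le_right, ⟨hxO, hx⟩, ?_⟩
  have e1 : (fun j => E.presheaf.map (homOfLE (inf_le_right : O ⊓ f ⁻¹ᵁ (V' ⊓ V) ≤ f ⁻¹ᵁ (V' ⊓ V))).op
      (E.presheaf.map (homOfLE (f.preimage_mono inf_le_right)).op (e j))) =
      fun j => E.presheaf.map (homOfLE (inf_le_left : O ⊓ f ⁻¹ᵁ (V' ⊓ V) ≤ O)).op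
        (E.presheaf.map (homOfLE hO).op (e j)) :=
    funext fun j => (H10Coh.mres_mres E _ _ _).trans (H10Coh.mres_mres E _ _ _).symm
  exact e1.symm ▸ hb.mono inf_le_left

/-- The points whose fibre lies in the basis locus form a compact open. -/
theorem isCompact_basis_points (hE : FlatMod.IsFinLocFree E) {V : S.Opens} (hV : IsAffineOpen V)
    (e : Fin n → Γ(E, f ⁻¹ᵁ V)) :
    IsCompact {s : S | s ∈ V ∧ ∀ x, f x = s → x ∈ basisLocus f E e} := by
  classical
  have hpre : IsCompact (f ⁻¹ᵁ V : Set X) := f.isCompact_preimage hV.isCompact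
  -- charts
  have hch : ∀ x ∈ f ⁻¹ᵁ V, ∃ (U : X.Opens) (k : ℕ) (b : Fin k → Γ(E, U)),
      IsAffineOpen U ∧ x ∈ U ∧ U ≤ f ⁻¹ᵁ V ∧ IsBasisOn E b := fun x hx => by
    obtain ⟨U₀, k, hxU₀, ⟨φ⟩⟩ := hE x
    obtain ⟨b₀, hb₀⟩ := exists_isBasisOn_of_chart E φ
    obtain ⟨U, hU, hxU, hle⟩ := exists_isAffineOpen_mem_and_subset (U := U₀ ⊓ f ⁻¹ᵁ V) (x := x) ⟨hxU₀, hx⟩
    exact ⟨U, k, _, hU, hxU, fun y hy => (hle hy).2, hb₀.mono fun y hy => (hle hy).1⟩
  choose! U k b hU hxU hUV hb using hch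
  obtain ⟨F, hF, hFfin, hcov⟩ := hpre.elim_finite_subcover_image (b := (f ⁻¹ᵁ V : Set X))
    (c := fun x => (U x : Set X)) (fun x _ => (U x).isOpen) fun x hx => Set.mem_biUnion hx (hxU x hx)
  have hD : IsCompact ((basisLocus f E e : Set X) ∩ (f ⁻¹ᵁ V : Set X)) := by
    have e1 : (basisLocus f E e : Set X) ∩ (f ⁻¹ᵁ V : Set X) =
        ⋃ x ∈ F, (basisLocus f E e : Set X) ∩ (U x : Set X) := by
      ext y
      simp only [Set.mem_inter_iff, Set.mem_iUnion, exists_prop]
      constructor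
      · rintro ⟨h1, h2⟩
        obtain ⟨x, hx, hy⟩ := Set.mem_iUnion₂.1 (hcov h2)
        exact ⟨x, hx, h1, hy⟩
      · rintro ⟨x, hx, h1, h2⟩
        exact ⟨h1, hUV x (hF hx) h2⟩
    rw [e1]
    refine hFfin.isCompact_biUnion fun x hx => ?_
    by_cases hk : n = k x
    · choose M hM using fun j => ((hb x (hF hx)) (U x) le_rfl).2 (E.presheaf.map (homOfLE (hUV x (hF hx))).op (e j))
      simp only [comb, H10Coh.mres_self] at hM
      let M' : Matrix (Fin n) (Fin n) Γ(X, U x) := Matrix.of fun j i => M j (Fin.cast hk i)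
      let b' : Fin n → Γ(E, U x) := fun i => b x (Fin.cast hk i)
      have hb' : IsBasisOn E b' := by
        have : ∀ {k : ℕ} (h : n = k) {b : Fin k → Γ(E, U x)}, IsBasisOn E b →
            IsBasisOn E fun i => b (Fin.cast h i) := by rintro _ rfl b hb; exact hb
        exact this hk (hb x (hF hx))
      have hM' : ∀ j, E.presheaf.map (homOfLE (hUV x (hF hx))).op (e j) = ∑ i, M' j i • b' i := fun j => by
        rw [← hM j]
        exact (Fintype.sum_equiv (finCongr hk) _ _ fun i => rfl).symm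
      have : (basisLocus f E e : Set X) ∩ (U x : Set X) = X.basicOpen M'.det := by
        ext y
        constructor
        · rintro ⟨⟨O, hO, hyO, hbO⟩, hyU⟩
          have hdet := isUnit_det_of_isBasisOn (hbO.mono (inf_le_left : O ⊓ U x ≤ O))
            (M'.map (X.presheaf.map (homOfLE (inf_le_right : O ⊓ U x ≤ U x)).op))
            (m := fun i => E.presheaf.map (homOfLE (inf_le_right : O ⊓ U x ≤ U x)).op (b' i)) fun j => by
              rw [H10Coh.mres_mres, ← H10Coh.mres_mres E (hUV x (hF hx)) inf_le_right, hM', map_sum]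
              exact Finset.sum_congr rfl fun i _ => Scheme.Modules.map_smul E _ _ _
          rw [← RingHom.mapMatrix_apply, ← RingHom.map_det] at hdet
          have hy : y ∈ X.basicOpen ((X.presheaf.map (homOfLE (inf_le_right : O ⊓ U x ≤ U x)).op).hom M'.det) := by
            rw [Scheme.basicOpen_of_isUnit _ hdet]; exact ⟨hyO, hyU⟩
          rw [Scheme.basicOpen_res] at hy
          exact hy.2
        · intro hy
          refine ⟨⟨X.basicOpen M'.det, (X.basicOpen_le _).trans (hUV x (hF hx)), hy, ?_⟩, X.basicOpen_le _ hy⟩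
          refine (hb'.mono (X.basicOpen_le _)).of_matrix (M'.map (X.presheaf.map (homOfLE (X.basicOpen_le _)).op))
            (fun j => ?_) ?_
          · rw [← H10Coh.mres_mres E (hUV x (hF hx)) (X.basicOpen_le _), hM', map_sum]
            exact Finset.sum_congr rfl fun i _ => Scheme.Modules.map_smul E _ _ _
          · rw [← RingHom.mapMatrix_apply, ← RingHom.map_det]
            exact X.toRingedSpace.isUnit_res_basicOpen _
      rw [this]
      exact ((hU x (hF hx)).basicOpen _).isCompact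
    · convert isCompact_empty
      refine Set.eq_empty_iff_forall_notMem.2 ?_
      rintro y ⟨⟨O, hO, hyO, hbO⟩, hyU⟩
      exact hk (rank_unique (hbO.mono (inf_le_left : O ⊓ U x ≤ O)) ((hb x (hF hx)).mono (inf_le_right : O ⊓ U x ≤ U x))
        ⟨hyO, hyU⟩)
  -- Chevalley
  haveI : CompactSpace V.toScheme := isCompact_iff_compactSpace.1 hV.isCompact
  haveI : IsAffine V.toScheme := hV
  let q := f ∣_ V
  haveI : CompactSpace (f ⁻¹ᵁ V).toScheme := isCompact_iff_compactSpace.1 hpre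
  haveI : QuasiSeparatedSpace (f ⁻¹ᵁ V).toScheme := quasiSeparatedSpace_of_quasiSeparated q
  let D' : Set (f ⁻¹ᵁ V).toScheme := (f ⁻¹ᵁ V).ι ⁻¹' (basisLocus f E e)
  have hD'c : IsCompact D' := by
    rw [(f ⁻¹ᵁ V).ι.isOpenEmbedding.isInducing.isCompact_iff, Set.image_preimage_eq_inter_range,
      Scheme.Opens.range_ι]
    exact hD
  have hD'o : IsOpen D' := (basisLocus f E e).isOpen.preimage (f ⁻¹ᵁ V).ι.continuous
  let A : Set V.toScheme := (q '' D'ᶜ)ᶜ
  have hA : Topology.IsConstructible A :=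
    (q.isConstructible_image (hD'c.isConstructible hD'o).compl).compl
  have hAc : IsCompact A := by
    have h1 := H28Top.isClosed_constr_of_isConstructible hA
    haveI := H28Top.compactSpace_constr (X := V.toScheme)
    have h2 : @IsCompact V.toScheme (constructibleTopology V.toScheme) A :=
      @IsClosed.isCompact _ (constructibleTopology V.toScheme) A ‹_› h1
    let τ : TopologicalSpace V.toScheme := V.toScheme.carrier.str
    have hcont : @Continuous V.toScheme V.toScheme (constructibleTopology V.toScheme) τ id :=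
      (@continuous_def _ _ (constructibleTopology V.toScheme) τ id).2 fun _ hs => H28Top.isOpen_constr_of_isOpen hs
    have h3 : @IsCompact V.toScheme τ (id '' A) :=
      @IsCompact.image _ _ (constructibleTopology V.toScheme) τ A id h2 hcont
    rwa [Set.image_id] at h3
  have e2 : {s : S | s ∈ V ∧ ∀ x, f x = s → x ∈ basisLocus f E e} = V.ι '' A := by
    ext s
    constructor
    · rintro ⟨hs, hall⟩
      refine ⟨⟨s, hs⟩, ?_, rfl⟩
      rintro ⟨y, hy, hye⟩
      refine hy (hall _ ?_)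
      have : V.ι (q y) = f ((f ⁻¹ᵁ V).ι y) := by
        rw [← Scheme.Hom.comp_apply, morphismRestrict_ι, Scheme.Hom.comp_apply]
      exact this.symm.trans (congrArg V.ι hye)
    · rintro ⟨v, hv, rfl⟩
      refine ⟨v.2, fun x hx => ?_⟩
      have hxV : x ∈ f ⁻¹ᵁ V := by show f x ∈ V; rw [hx]; exact v.2
      by_contra hxD
      refine hv ⟨⟨x, hxV⟩, hxD, ?_⟩
      apply V.ι.isOpenEmbedding.injective
      rw [← Scheme.Hom.comp_apply, morphismRestrict_ι, Scheme.Hom.comp_apply]
      exact hx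
  rw [e2]
  exact hAc.image V.ι.continuous

end Groth.Agent.LeadStrat.VB
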