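import Groth.Agent.LeadStrat.VB.Key
import Groth.Agent.H12Pic.FibreConst

/-!
# The seesaw subscheme of a vector bundle
-/

set_option autoImplicit false
set_option linter.style.haveILetI false
set_option linter.unusedSectionVars false

noncomputable section

universe u

open CategoryTheory CategoryTheory.Limits AlgebraicGeometry Opposite TopologicalSpace

namespace Groth.Agent.LeadStrat.VB

open Groth.Agent.H28Pinch Groth.Agent.H12Pic Groth.Agent.LeadBC.GenBC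

attribute [local instance 10000] H10Coh.hasSheafifyAb H10Coh.hasWeakSheafifyAb H10Coh.hasExtAb H10Coh.enoughInjAb

/-- The residue field of a point of an immersion. -/
theorem isIso_residueFieldMap {X Y : Scheme.{u}} (g : X ⟶ Y) [IsPreimmersion g] (x : X) :
    IsIso (g.residueFieldMap x) := by
  refine (ConcreteCategory.isIso_iff_bijective _).2 ⟨RingHom.injective _, fun a => ?_⟩
  obtain ⟨b, rfl⟩ := X.residue_surjective x a
  obtain ⟨c, rfl⟩ := g.stalkMap_surjective x b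
  exact ⟨Y.residue (g x) c, congr($(Scheme.residue_residueFieldMap g x) c)⟩

variable {X S : Scheme.{u}} (f : X ⟶ S) [IsProper f] [Flat f] [LocallyOfFinitePresentation f]

theorem bijective_app_baseChange' (hK : ∀ s : S, IsIso (f.fiberToSpecResidueField s).appTop)
    {T XT : Scheme.{u}} {u : T ⟶ S} {g : XT ⟶ X} {p : XT ⟶ T} (h : IsPullback g p f u) (U : T.Opens) :
    Function.Bijective (p.app U) := by
  haveI : IsProper p := MorphismProperty.of_isPullback h ‹IsProper f›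
  haveI : Flat p := MorphismProperty.of_isPullback h ‹Flat f›
  haveI : LocallyOfFinitePresentation p := MorphismProperty.of_isPullback h ‹LocallyOfFinitePresentation f›
  haveI := LeadBC.GenBC.isIso_app_of_fibres p (LeadBC.GenBC.isIso_appTop_fibre_baseChange f h hK) U
  exact ConcreteCategory.bijective_of_isIso (p.app U)

variable (E : X.Modules) (hE : FlatMod.IsFinLocFree E)
  (hK : ∀ s : S, IsIso (f.fiberToSpecResidueField s).appTop)

include hE hK in
/-- The subscheme over which the module is the pullback of one of rank `n`. -/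
theorem exists_stratum_locTriv (n : ℕ) :
    ∃ (Z : Scheme.{u}) (ι : Z ⟶ S), IsImmersion ι ∧ LocallyOfFinitePresentation ι ∧ QuasiCompact ι ∧
      ∀ (T XT : Scheme.{u}) (u : T ⟶ S) (fT : XT ⟶ T) (gT : XT ⟶ X), IsPullback gT fT f u →
        ((∃ u' : T ⟶ Z, u' ≫ ι = u) ↔ LocTriv fT ((Scheme.Modules.pullback gT).obj E) n) := by
  have hbij : ∀ {T XT : Scheme.{u}} {u : T ⟶ S} {g : XT ⟶ X} {p : XT ⟶ T},
      IsPullback g p f u → ∀ U : T.Opens, Function.Bijective (p.app U) := fun h U => bijective_app_baseChange' f hK h U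
  have hfp : CohB1.IsFP E := H8Props.FinLocFree.isFP_of_isFinLocFree E hE
  have hfl : FlatMod.IsFlatOver f E := H10Coh.SheafHom.isFlatOver_of_isFinLocFree f E hE
  haveI : E.IsQuasicoherent := H29Fitt.isQCoh_of_isFP E hfp
  obtain ⟨Z₀, ι₀, hι, hlfp, hqc, hZ, -⟩ := LeadStrat.exists_stratum f E n hfp hfl
  let f₀ := pullback.snd f ι₀
  let E₀ := (Scheme.Modules.pullback (pullback.fst f ι₀)).obj E
  haveI : IsProper f₀ := MorphismProperty.pullback_snd _ _ ‹IsProper f›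
  haveI : LocallyOfFinitePresentation f₀ := MorphismProperty.pullback_snd _ _ ‹LocallyOfFinitePresentation f›
  have hE₀ : FlatMod.IsFinLocFree E₀ := H16Derived.KFlat.Stalk.isFinLocFree_pullback _ hE
  have hC : Cond E n f₀ (pullback.fst f ι₀) :=
    (hZ Z₀ _ ι₀ f₀ _ (IsPullback.of_hasPullback f ι₀)).1 ⟨𝟙 _, Category.id_comp _⟩
  have hN : Coh.IsQCoh ((Scheme.Modules.pushforward f₀).obj E₀) :=
    H8Props.FinLocFree.isQCoh_of_isFinLocFree _ fun x => by
      obtain ⟨U, hx, he⟩ := hC.1 x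
      exact ⟨U, n, hx, he⟩
  let Ω : Z₀.Opens := ⟨{z | ∃ (W : Z₀.Opens) (m : Fin n → Γ(E₀, f₀ ⁻¹ᵁ W)), z ∈ W ∧ IsBasisOn E₀ m},
    isOpen_iff_forall_mem_open.2 fun _ ⟨W, m, hzW, hm⟩ => ⟨W, fun _ hy => ⟨W, m, hy, hm⟩, W.isOpen, hzW⟩⟩
  -- sections of the direct image near each point
  have hsec : ∀ (V' : Z₀.Opens) {z : Z₀}, z ∈ V' → ∃ (V : Z₀.Opens) (e : Fin n → Γ(E₀, f₀ ⁻¹ᵁ V)),
      IsAffineOpen V ∧ z ∈ V ∧ V ≤ V' ∧ Submodule.span Γ(Z₀, V) (Set.range (toPush f₀ E₀ e)) = ⊤ := by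
    intro V' z hz
    obtain ⟨U, hzU, ⟨φ⟩⟩ := hC.1 z
    obtain ⟨m, hm⟩ := exists_isBasisOn_of_chart _ φ
    obtain ⟨V, hV, hzV, hle⟩ := exists_isAffineOpen_mem_and_subset (U := V' ⊓ U) (x := z) ⟨hz, hzU⟩
    have hVU : V ≤ U := fun y hy => (hle hy).2
    let e : Fin n → Γ((Scheme.Modules.pushforward f₀).obj E₀, V) :=
      fun j => ((Scheme.Modules.pushforward f₀).obj E₀).presheaf.map (homOfLE hVU).op (m j)
    refine ⟨V, e, hV, hzV, fun y hy => (hle hy).1, top_le_iff.1 fun y _ => ?_⟩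
    obtain ⟨c, hc⟩ := (hm V hVU).2 y
    rw [← hc]
    exact Submodule.sum_mem _ fun j _ => Submodule.smul_mem _ _ (Submodule.subset_span ⟨j, rfl⟩)
  haveI : QuasiCompact Ω.ι := by
    refine quasiCompact_iff_forall_isAffineOpen.2 fun V' hV' => ?_
    rw [Ω.ι.isOpenEmbedding.isInducing.isCompact_iff]
    choose! V e hV hzV hle he using fun z (hz : z ∈ V') => hsec V' hz
    obtain ⟨G, hG, hGfin, hcov⟩ := hV'.isCompact.elim_finite_subcover_image (b := (V' : Set Z₀))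
      (c := fun z => (V z : Set Z₀)) (fun z _ => (V z).isOpen) fun z hz => Set.mem_biUnion hz (hzV z hz)
    have e1 : Ω.ι '' (Ω.ι ⁻¹ᵁ V' : Set Ω.toScheme) =
        ⋃ z ∈ G, {s : Z₀ | s ∈ V z ∧ ∀ x, f₀ x = s → x ∈ basisLocus f₀ E₀ (e z)} := by
      ext s
      simp only [Set.mem_image, Set.mem_iUnion, Set.mem_ofPred_eq, SetLike.mem_coe, exists_prop]
      constructor
      · rintro ⟨y, hy, rfl⟩
        obtain ⟨z, hz, hyz⟩ := Set.mem_iUnion₂.1 (hcov hy)
        refine ⟨z, hz, hyz, fun x hx => ?_⟩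
        obtain ⟨W₁, m₁, hy₁, hm₁⟩ := y.2
        obtain ⟨W, hW, hyW, hWle⟩ :=
          exists_isAffineOpen_mem_and_subset (U := V z ⊓ W₁) (x := Ω.ι y) ⟨hyz, hy₁⟩
        have hsq : IsPullback (𝟙 (pullback f ι₀)) f₀ f₀ (𝟙 Z₀) := IsPullback.of_horiz_isIso ⟨by simp⟩
        haveI := hC.2 _ _ _ hsq
        obtain ⟨γ, hγ⟩ := exists_basis_pull (𝟙 (pullback f ι₀)) (Iso.refl _)
          (H8Props.FinLocFree.isQCoh_of_isFinLocFree E₀ hE₀) hm₁ (W' := f₀ ⁻¹ᵁ W)
          (fun a ha => (hWle ha).2)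
        exact basisLocus_of_bc f₀ E₀ hN hE₀ hsq (hV z (hG hz)) (he z (hG hz)) hW
          (fun a ha => (hWle ha).1) hγ hyW hx
      · rintro ⟨z, hz, hsz, hall⟩
        exact ⟨⟨s, exists_nhd_basis f₀ E₀ hsz hall⟩, hle z (hG hz) hsz, rfl⟩
    rw [e1]
    exact hGfin.isCompact_biUnion fun z hz => isCompact_basis_points f₀ E₀ hE₀ (hV z (hG hz)) (e z)
  haveI := hι
  haveI := hlfp
  haveI := hqc
  refine ⟨Ω, Ω.ι ≫ ι₀, inferInstance, inferInstance, inferInstance, fun T XT u fT gT hT => ⟨?_, fun hloc => ?_⟩⟩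
  · rintro ⟨w, rfl⟩ t
    have hw : gT ≫ f = (fT ≫ w ≫ Ω.ι) ≫ ι₀ := by simpa using hT.w
    let g := (IsPullback.of_hasPullback f ι₀).lift gT (fT ≫ w ≫ Ω.ι) hw
    have hg₁ : g ≫ pullback.fst f ι₀ = gT := IsPullback.lift_fst _ _ _ _
    have hg₂ : g ≫ f₀ = fT ≫ w ≫ Ω.ι := IsPullback.lift_snd _ _ _ _
    obtain ⟨W, m, htW, hm⟩ := (w t).2
    obtain ⟨m', hm'⟩ := exists_basis_pull g
      ((Scheme.Modules.pullbackComp g (pullback.fst f ι₀)).app E ≪≫ (Scheme.Modules.pullbackCongr hg₁).app E)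
      (H8Props.FinLocFree.isQCoh_of_isFinLocFree E₀ hE₀) hm (W' := fT ⁻¹ᵁ ((w ≫ Ω.ι) ⁻¹ᵁ W))
      (fun a ha => by
        show f₀ (g a) ∈ W
        rw [← Scheme.Hom.comp_apply, hg₂]
        exact ha)
    exact ⟨_, m', htW, hm'⟩
  · obtain ⟨v, rfl⟩ := (hZ T XT u fT gT hT).2 (cond_of_locTriv f E hfp hfl hbij hT hloc)
    let g := (IsPullback.of_hasPullback f ι₀).lift gT (fT ≫ v) (by simpa using hT.w)
    have hg₁ : g ≫ pullback.fst f ι₀ = gT := IsPullback.lift_fst _ _ _ _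
    have hg₂ : g ≫ f₀ = fT ≫ v := IsPullback.lift_snd _ _ _ _
    have hsq : IsPullback g fT f₀ v :=
      IsPullback.of_right (h₁₂ := pullback.fst f ι₀) (v₁₃ := f) (h₂₂ := ι₀) (by rw [hg₁]; exact hT) hg₂
        (IsPullback.of_hasPullback f ι₀)
    haveI := hC.2 _ _ _ hsq
    have hrange : Set.range v ⊆ Set.range Ω.ι := by
      rw [Scheme.Opens.range_ι]
      rintro _ ⟨t, rfl⟩
      obtain ⟨V, e, hV, htV, -, he⟩ := hsec ⊤ (z := v t) trivial
      obtain ⟨W₁, m, htW₁, hm⟩ := hloc t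
      obtain ⟨W, hW, htW, hle⟩ := exists_isAffineOpen_mem_and_subset (U := v ⁻¹ᵁ V ⊓ W₁) (x := t) ⟨htV, htW₁⟩
      let φ : (Scheme.Modules.pullback g).obj E₀ ≅ (Scheme.Modules.pullback gT).obj E :=
        (Scheme.Modules.pullbackComp g (pullback.fst f ι₀)).app E ≪≫ (Scheme.Modules.pullbackCongr hg₁).app E
      have hγ := (hm.map_iso φ.symm).mono (fT.preimage_mono fun a ha => (hle ha).2 : fT ⁻¹ᵁ W ≤ fT ⁻¹ᵁ W₁)
      exact exists_nhd_basis f₀ E₀ htV fun x hx =>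
        basisLocus_of_bc f₀ E₀ hN hE₀ hsq hV he hW (fun a ha => (hle ha).1) hγ htW hx
    exact ⟨IsOpenImmersion.lift Ω.ι v hrange, by rw [← Category.assoc, IsOpenImmersion.lift_fac]⟩

include hE hK in
/-- The seesaw subscheme. -/
theorem exists_seesaw_vb (hconn : ∀ s : S, ConnectedSpace (f.fiber s)) :
    ∃ (Z : Scheme.{u}) (ι : Z ⟶ S), IsImmersion ι ∧ LocallyOfFinitePresentation ι ∧ QuasiCompact ι ∧
      (∀ (T : Scheme.{u}) (u : T ⟶ S), (∃ u' : T ⟶ Z, u' ≫ ι = u) ↔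
        LocTrivAny (pullback.snd f u) ((Scheme.Modules.pullback (pullback.fst f u)).obj E)) ∧
      Set.range ι = {s : S | ∃ n : ℕ, Nonempty (CohIII.fiberMod f E s ≅ FlatMod.freeMod (f.fiber s) n)} := by
  have hq := H8Props.FinLocFree.isQCoh_of_isFinLocFree E hE
  have hch : ∀ x : X, ∃ (k : ℕ) (U : X.Opens) (b : Fin k → Γ(E, U)), x ∈ U ∧ IsBasisOn E b := fun x => by
    obtain ⟨U, k, hxU, ⟨e⟩⟩ := hE x
    obtain ⟨b, hb⟩ := exists_isBasisOn_of_chart E e
    exact ⟨k, U, b, hxU, hb⟩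
  choose rk hrk using hch
  have rk_eq : ∀ {U : X.Opens} {k : ℕ} {b : Fin k → Γ(E, U)}, IsBasisOn E b → ∀ x ∈ U, rk x = k := by
    intro U k b hb x hx
    obtain ⟨U', b', hxU', hb'⟩ := hrk x
    exact rank_unique (hb'.mono (inf_le_left : U' ⊓ U ≤ U')) (hb.mono (inf_le_right : U' ⊓ U ≤ U)) ⟨hxU', hx⟩
  have hlc : IsLocallyConstant rk := (IsLocallyConstant.iff_exists_open _).2 fun x => by
    obtain ⟨U, b, hxU, hb⟩ := hrk x
    exact ⟨U, U.isOpen, hxU, fun y hy => rk_eq hb y hy⟩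
  have hconst : ∀ x y : X, f x = f y → rk x = rk y := fun x y h => by
    haveI := hconn (f x)
    have hc : IsLocallyConstant fun z : f.fiber (f x) => rk (f.fiberι (f x) z) :=
      hlc.comp_continuous (f.fiberι (f x)).continuous
    obtain ⟨a, ha⟩ := (f.range_fiberι (f x)).ge (show x ∈ f ⁻¹' {f x} from rfl)
    obtain ⟨b, hb⟩ := (f.range_fiberι (f x)).ge (show y ∈ f ⁻¹' {f x} from h.symm)
    have := hc.apply_eq_of_preconnectedSpace a b
    simp only [ha, hb] at this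
    exact this
  have hsurj : ∀ s : S, ∃ x, f x = s := fun s => by
    haveI := hconn s
    obtain ⟨z⟩ : Nonempty (f.fiber s) := inferInstance
    exact ⟨f.fiberι s z, (f.range_fiberι s).le ⟨z, rfl⟩⟩
  -- the rank read off from a basis on a base change
  have hrank : ∀ {T XT : Scheme.{u}} {u : T ⟶ S} {fT : XT ⟶ T} {gT : XT ⟶ X}, IsPullback gT fT f u →
      ∀ {W : T.Opens} {k : ℕ} {m : Fin k → Γ((Scheme.Modules.pullback gT).obj E, fT ⁻¹ᵁ W)}, IsBasisOn _ m →
        ∀ t ∈ W, ∀ x, f x = u t → rk x = k := by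
    intro T XT u fT gT hT W k m hm t ht x hx
    obtain ⟨p, hp₁, hp₂⟩ := Scheme.exists_preimage_of_isPullback hT x t hx
    obtain ⟨U, b, hxU, hb⟩ := hrk x
    have hpU : p ∈ gT ⁻¹ᵁ U := show gT p ∈ U by rw [hp₁]; exact hxU
    have hpW : p ∈ fT ⁻¹ᵁ W := show fT p ∈ W by rw [hp₂]; exact ht
    exact rank_unique ((hb.pullback gT hq).mono (inf_le_left : gT ⁻¹ᵁ U ⊓ fT ⁻¹ᵁ W ≤ _))
      (hm.mono (inf_le_right : gT ⁻¹ᵁ U ⊓ fT ⁻¹ᵁ W ≤ _)) ⟨hpU, hpW⟩
  let R : ℕ → S.Opens := fun n => ⟨f '' {x | rk x = n}, f.isOpenMap _ (hlc.isOpen_fiber n)⟩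
  have hR : ∀ {x : X} {n : ℕ}, f x ∈ R n ↔ rk x = n := fun {x n} => by
    constructor
    · rintro ⟨y, hy, hyx⟩
      rw [← hy]
      exact hconst x y hyx.symm
    · exact fun h => ⟨x, h, rfl⟩
  choose Zn ιn himm hlfp hqc huniv using exists_stratum_locTriv f E hE hK
  let ZZ : ULift.{u} ℕ → Scheme.{u} := fun n => Zn n.down
  let ι : ∐ ZZ ⟶ S := Sigma.desc fun n => ιn n.down
  have hιn : ∀ n, Sigma.ι ZZ n ≫ ι = ιn n.down := fun n => Sigma.ι_desc _ _
  have hrange : ∀ (n : ℕ) (z : Zn n), ιn n z ∈ R n := fun n z => by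
    have hT := IsPullback.of_hasPullback f (ιn n)
    obtain ⟨W, m, hzW, hm⟩ := (huniv n _ _ _ _ _ hT).1 ⟨𝟙 _, Category.id_comp _⟩ z
    obtain ⟨x, hx⟩ := hsurj (ιn n z)
    rw [← hx, hR]
    exact hrank hT hm z hzW x hx
  have hcov : ⨆ n, R n = ⊤ := eq_top_iff.2 fun s _ => by
    obtain ⟨x, rfl⟩ := hsurj s
    exact Opens.mem_iSup.2 ⟨_, hR.2 rfl⟩
  have hpre : ∀ n : ULift.{u} ℕ, Set.range (ι ⁻¹ᵁ R n.down).ι = Set.range (Sigma.ι ZZ n) := fun n => by
    rw [Scheme.Opens.range_ι]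
    ext y
    constructor
    · intro hy
      obtain ⟨k, z, rfl⟩ := (sigmaOpenCover ZZ).exists_eq y
      obtain ⟨x, hx⟩ := hsurj (ιn k.down z)
      have h1 : ιn k.down z ∈ R n.down := by
        rw [← hιn k, Scheme.Hom.comp_apply]; exact hy
      have h2 := hrange k.down z
      rw [← hx, hR] at h1 h2
      obtain rfl : k = n := ULift.ext _ _ (h2.symm.trans h1)
      exact ⟨z, rfl⟩
    · rintro ⟨z, rfl⟩
      show ι (Sigma.ι ZZ n z) ∈ R n.down
      rw [← Scheme.Hom.comp_apply, hιn]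
      exact hrange _ z
  have hloc : ∀ (P : MorphismProperty Scheme.{u}) [IsZariskiLocalAtTarget P] [P.RespectsIso],
      (∀ n : ℕ, ∀ q : Zn n ⟶ R n, q ≫ (R n).ι = ιn n → P q) → P ι := by
    intro P _ _ h
    refine (IsZariskiLocalAtTarget.iff_of_iSup_eq_top (P := P) R hcov).2 fun n => ?_
    let e := IsOpenImmersion.isoOfRangeEq (Sigma.ι ZZ ⟨n⟩) (ι ⁻¹ᵁ R n).ι (hpre ⟨n⟩).symm
    refine (P.cancel_left_of_respectsIso e.hom _).1 (h n _ ?_)
    rw [Category.assoc, morphismRestrict_ι, ← Category.assoc,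
      show e.hom ≫ (ι ⁻¹ᵁ R n).ι = Sigma.ι ZZ ⟨n⟩ from IsOpenImmersion.isoOfRangeEq_hom_fac _ _ _]
    exact hιn ⟨n⟩
  haveI hι₁ : IsImmersion ι := hloc @IsImmersion fun n q hq => by
    haveI : IsImmersion (q ≫ (R n).ι) := hq ▸ himm n
    exact IsImmersion.of_comp q (R n).ι
  have hι₂ : LocallyOfFinitePresentation ι := hloc @LocallyOfFinitePresentation fun n q hq => by
    haveI : LocallyOfFinitePresentation (q ≫ (R n).ι) := hq ▸ hlfp n
    have hw : 𝟙 _ ≫ ιn n = q ≫ (R n).ι := by rw [Category.id_comp, hq]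
    have hpb : IsPullback (𝟙 (Zn n)) q (ιn n) (R n).ι :=
      ⟨⟨hw⟩, ⟨PullbackCone.IsLimit.mk _ (fun c => c.fst) (fun c => Category.comp_id _)
        (fun c => (cancel_mono (R n).ι).1 (by rw [Category.assoc, hq]; exact c.condition))
        (fun c m h _ => by rw [← h]; exact (Category.comp_id _).symm)⟩⟩
    exact MorphismProperty.of_isPullback hpb (hlfp n)
  have hι₃ : QuasiCompact ι := hloc @QuasiCompact fun n q hq => by
    haveI : QuasiCompact (q ≫ (R n).ι) := hq ▸ hqc n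
    exact QuasiCompact.of_comp q (R n).ι
  have huniv' : ∀ (T : Scheme.{u}) (u : T ⟶ S), (∃ u' : T ⟶ ∐ ZZ, u' ≫ ι = u) ↔
      LocTrivAny (pullback.snd f u) ((Scheme.Modules.pullback (pullback.fst f u)).obj E) := by
    intro T u
    constructor
    · rintro ⟨v, rfl⟩ t
      obtain ⟨n, z, hz⟩ := (sigmaOpenCover ZZ).exists_eq (v t)
      let T' := v ⁻¹ᵁ (Sigma.ι ZZ n).opensRange
      have hr : Set.range (T'.ι ≫ v) ⊆ Set.range (Sigma.ι ZZ n) := by
        rintro _ ⟨y, rfl⟩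
        exact y.2
      let w := IsOpenImmersion.lift (Sigma.ι ZZ n) (T'.ι ≫ v) hr
      have hw : w ≫ ιn n.down = T'.ι ≫ v ≫ ι := by
        rw [← hιn n, ← Category.assoc, IsOpenImmersion.lift_fac, Category.assoc]
      obtain ⟨W', m, htW, hm⟩ := (huniv n.down _ _ _ _ _ (IsPullback.of_hasPullback f (T'.ι ≫ v ≫ ι))).1 ⟨w, hw⟩
        ⟨t, ⟨z, hz⟩⟩
      let g : pullback f (T'.ι ≫ v ≫ ι) ⟶ pullback f (v ≫ ι) :=
        pullback.lift (pullback.fst _ _) (pullback.snd _ _ ≫ T'.ι) (by rw [pullback.condition, Category.assoc])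
      have hg₁ : g ≫ pullback.fst f (v ≫ ι) = pullback.fst f (T'.ι ≫ v ≫ ι) := pullback.lift_fst _ _ _
      have hg₂ : g ≫ pullback.snd f (v ≫ ι) = pullback.snd f (T'.ι ≫ v ≫ ι) ≫ T'.ι := pullback.lift_snd _ _ _
      have hsq : IsPullback g (pullback.snd f (T'.ι ≫ v ≫ ι)) (pullback.snd f (v ≫ ι)) T'.ι :=
        IsPullback.of_right (h₁₂ := pullback.fst f (v ≫ ι)) (v₁₃ := f) (h₂₂ := v ≫ ι)
          (by rw [hg₁]; exact IsPullback.of_hasPullback f (T'.ι ≫ v ≫ ι)) hg₂ (IsPullback.of_hasPullback f (v ≫ ι))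
      haveI : IsOpenImmersion g := MorphismProperty.of_isPullback hsq.flip (inferInstanceAs (IsOpenImmersion T'.ι))
      obtain ⟨m', hm'⟩ := exists_basis_image g
        ((Scheme.Modules.pullbackComp g _).app E ≪≫ (Scheme.Modules.pullbackCongr hg₁).app E) hm
        (W := pullback.snd f (v ≫ ι) ⁻¹ᵁ (T'.ι ''ᵁ W')) (by
          rintro y ⟨a, ha, hay⟩
          obtain ⟨p, hp₁, hp₂⟩ := Scheme.exists_preimage_of_isPullback hsq y a hay.symm
          exact ⟨p, by show pullback.snd f (T'.ι ≫ v ≫ ι) p ∈ W'; rw [hp₂]; exact ha, hp₁⟩)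
      exact ⟨_, n.down, m', ⟨⟨t, ⟨z, hz⟩⟩, htW, rfl⟩, hm'⟩
    · intro hany
      have hpiece : ∀ n : ℕ, ∃ w : (u ⁻¹ᵁ R n).toScheme ⟶ ∐ ZZ, w ≫ ι = (u ⁻¹ᵁ R n).ι ≫ u := by
        intro n
        let T' := u ⁻¹ᵁ R n
        have hT := IsPullback.of_hasPullback f (T'.ι ≫ u)
        suffices h : LocTriv (pullback.snd f (T'.ι ≫ u))
            ((Scheme.Modules.pullback (pullback.fst f (T'.ι ≫ u))).obj E) n by
          obtain ⟨w, hw⟩ := (huniv n _ _ _ _ _ hT).2 h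
          exact ⟨w ≫ Sigma.ι ZZ ⟨n⟩, by rw [Category.assoc, hιn]; exact hw⟩
        intro t
        obtain ⟨W, k, m, htW, hm⟩ := hany (T'.ι t)
        let g : pullback f (T'.ι ≫ u) ⟶ pullback f u :=
          pullback.lift (pullback.fst _ _) (pullback.snd _ _ ≫ T'.ι) (by rw [pullback.condition, Category.assoc])
        have hg₁ : g ≫ pullback.fst f u = pullback.fst f (T'.ι ≫ u) := pullback.lift_fst _ _ _
        have hg₂ : g ≫ pullback.snd f u = pullback.snd f (T'.ι ≫ u) ≫ T'.ι := pullback.lift_snd _ _ _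
        obtain ⟨m', hm'⟩ := exists_basis_pull g
          ((Scheme.Modules.pullbackComp g _).app E ≪≫ (Scheme.Modules.pullbackCongr hg₁).app E)
          (H29Fitt.isQCoh_pullback _ E hq) hm (W' := pullback.snd f (T'.ι ≫ u) ⁻¹ᵁ (T'.ι ⁻¹ᵁ W)) (fun a ha => by
            show pullback.snd f u (g a) ∈ W
            rw [← Scheme.Hom.comp_apply, hg₂]
            exact ha)
        obtain rfl : k = n := by
          obtain ⟨x, hx⟩ := hsurj ((T'.ι ≫ u) t)
          have h1 : f x ∈ R n := by rw [hx]; exact t.2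
          exact (hrank hT hm' t htW x hx).symm.trans (hR.1 h1)
        exact ⟨_, m', htW, hm'⟩
      choose w hw using hpiece
      have hcovT : IsOpenCover fun n : ULift.{u} ℕ => u ⁻¹ᵁ R n.down := by
        refine eq_top_iff.2 fun t _ => ?_
        obtain ⟨n, hn⟩ := Opens.mem_iSup.1 (hcov.ge (Set.mem_univ (u t)))
        exact Opens.mem_iSup.2 ⟨⟨n⟩, hn⟩
      let 𝒰 := T.openCoverOfIsOpenCover _ hcovT
      haveI : Mono ι := inferInstance
      refine ⟨𝒰.glueMorphisms (fun n => w n.down) fun a b => (cancel_mono ι).1 ?_, 𝒰.hom_ext _ _ fun n => ?_⟩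
      · refine (Category.assoc _ _ _).trans (((congrArg (_ ≫ ·) (hw a.down)).trans ?_).trans
          ((Category.assoc _ _ _).trans (congrArg (_ ≫ ·) (hw b.down))).symm)
        exact (Category.assoc _ _ _).symm.trans ((congrArg (· ≫ u) pullback.condition).trans (Category.assoc _ _ _))
      · rw [← Category.assoc, Scheme.Cover.ι_glueMorphisms]
        exact hw n.down
  refine ⟨∐ ZZ, ι, hι₁, hι₂, hι₃, huniv', ?_⟩
  ext s
  constructor
  · rintro ⟨z, rfl⟩
    haveI := isIso_residueFieldMap ι z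
    have hfac : (Spec.map (inv (ι.residueFieldMap z)) ≫ (∐ ZZ).fromSpecResidueField z) ≫ ι =
        S.fromSpecResidueField (ι z) := by
      rw [Category.assoc, ← Scheme.Hom.SpecMap_residueFieldMap_fromSpecResidueField, ← Category.assoc,
        ← Spec.map_comp, IsIso.hom_inv_id, Spec.map_id, Category.id_comp]
    let K : Type u := S.residueField (ι z)
    obtain ⟨W, n, m, htW, hm⟩ := (huniv' _ _).1 ⟨_, hfac⟩ (IsLocalRing.closedPoint K)
    have hWtop : W = ⊤ := H23Para.eq_top_of_closedPoint_mem (A := CommRingCat.of K) htW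
    exact ⟨n, nonempty_iso_free_of_top (fun a _ => by
      show pullback.snd f (S.fromSpecResidueField (ι z)) a ∈ W
      rw [hWtop]
      trivial) hm⟩
  · rintro ⟨n, ⟨φ⟩⟩
    haveI : Nonempty (Spec (S.residueField s)) := inferInstanceAs (Nonempty (PrimeSpectrum (S.residueField s)))
    obtain ⟨v, hv⟩ := (huniv' _ (S.fromSpecResidueField s)).2 (fun t => by
      have hm := (isBasisOn_gen (f.fiber s) n ⊤).map_iso φ.symm
      exact ⟨⊤, n, _, trivial, hm⟩)
    let x : Spec (S.residueField s) := Classical.arbitrary _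
    refine ⟨v x, ?_⟩
    have := congrArg (fun q => q x) hv
    simpa [Scheme.fromSpecResidueField_apply] using this

end Groth.Agent.LeadStrat.VB
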